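import Mathlib

/-!
Arithmetic for groups with at most one composite element order.
-/

set_option autoImplicit false

namespace Cfsg.Agent.Lib.OneComposite24

theorem three_dvd_pow_two_even (j : ℕ) : 3 ∣ 2 ^ (2 * j) - 1 := by
  induction j with
  | zero => norm_num
  | succ j ih =>
    rw [show 2 * (j + 1) = 2 + 2 * j by ring, pow_add]
    have : 1 ≤ 2 ^ (2 * j) := Nat.one_le_two_pow
    omega

theorem three_dvd_pow_two_odd (j : ℕ) : 3 ∣ 2 ^ (2 * j + 1) + 1 := by
  have h := three_dvd_pow_two_even j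
  have : 1 ≤ 2 ^ (2 * j) := Nat.one_le_two_pow
  rw [pow_succ]
  omega

theorem eq_three_of_prime {p : ℕ} (hp : p.Prime) (h : 3 ∣ p) : p = 3 :=
  ((Nat.prime_dvd_prime_iff_eq Nat.prime_three hp).1 h).symm

/-- The tori of `PSL(2, 2^k)`. -/
theorem even_case {S : ℕ → Prop} (hdiv : ∀ a b, S a → b ∣ a → S b)
    (huniq : ∀ a b, S a → S b → 1 < a → ¬ a.Prime → 1 < b → ¬ b.Prime → a = b) {k : ℕ} (hk : 2 ≤ k)
    (hm : S (2 ^ k - 1)) (hp : S (2 ^ k + 1)) :
    k = 2 ∨ k = 4 ∨ ((2 ^ k - 1).Prime ∧ ∃ r : ℕ, r.Prime ∧ 2 ^ k + 1 = 3 * r) := by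
  have h4 : 4 ≤ 2 ^ k := le_trans (by norm_num) (Nat.pow_le_pow_right (show 0 < 2 by norm_num) hk)
  have hsub : ∀ a b, S a → 1 < a → ¬ a.Prime → b ∣ a → 1 < b → b ≠ a → b.Prime := fun a b ha h1 h2 hba hb1 hne =>
    by_contra fun hnb => hne (huniq b a (hdiv a b ha hba) ha hb1 hnb h1 h2)
  obtain ⟨j, rfl | rfl⟩ : ∃ j, k = 2 * j ∨ k = 2 * j + 1 := ⟨k / 2, by omega⟩
  · rcases Nat.lt_or_ge j 2 with hj | hj
    · exact Or.inl (by omega)
    refine Or.inr (Or.inl ?_)
    set a := 2 ^ j with ha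
    have ha4 : 4 ≤ a := le_trans (by norm_num) (Nat.pow_le_pow_right (show 0 < 2 by norm_num) hj)
    have hprod : 2 ^ (2 * j) - 1 = (a + 1) * (a - 1) := by
      rw [← Nat.sq_sub_sq, one_pow, ha, ← pow_mul, mul_comm]
    rw [hprod] at hm
    have h1 : 1 < (a + 1) * (a - 1) := Nat.one_lt_mul_iff.2 ⟨by omega, by omega, Or.inl (by omega)⟩
    have hnp : ¬ ((a + 1) * (a - 1)).Prime := Nat.not_prime_mul (by omega) (by omega)
    have hp1 : (a + 1).Prime := hsub _ _ hm h1 hnp (dvd_mul_right _ _) (by omega) (by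
      intro e
      exact absurd (Nat.eq_of_mul_eq_mul_left (show 0 < a + 1 by omega) (e.symm.trans (mul_one _).symm)) (by omega))
    have hp2 : (a - 1).Prime := hsub _ _ hm h1 hnp (dvd_mul_left _ _) (by omega) (by
      intro e
      exact absurd (Nat.eq_of_mul_eq_mul_right (show 0 < a - 1 by omega) (e.symm.trans (one_mul _).symm)) (by omega))
    obtain ⟨i, rfl | rfl⟩ : ∃ i, j = 2 * i ∨ j = 2 * i + 1 := ⟨j / 2, by omega⟩
    · have h3 := eq_three_of_prime hp2 (by rw [ha]; exact three_dvd_pow_two_even i)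
      have : 2 ^ (2 * i) = 2 ^ 2 := by omega
      have := Nat.pow_right_injective le_rfl this
      omega
    · have h3 := eq_three_of_prime hp1 (by rw [ha]; exact three_dvd_pow_two_odd i)
      omega
  · have h8 : 8 ≤ 2 ^ (2 * j + 1) :=
      le_trans (by norm_num) (Nat.pow_le_pow_right (show 0 < 2 by norm_num) (show 3 ≤ 2 * j + 1 by omega))
    obtain ⟨r, hr⟩ := three_dvd_pow_two_odd j
    have h1 : 1 < 2 ^ (2 * j + 1) + 1 := by omega
    have hnp : ¬ (2 ^ (2 * j + 1) + 1).Prime := by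
      rw [hr]
      exact Nat.not_prime_mul (by norm_num) (by omega)
    refine Or.inr (Or.inr ⟨?_, r, ?_, hr⟩)
    · by_contra hnm
      have := huniq _ _ hm hp (by omega) hnm h1 hnp
      omega
    · exact hsub _ _ hp h1 hnp ⟨3, by rw [hr, mul_comm]⟩ (by omega) (by omega)

/-- The tori of `PSL(2, q)`, `q ≡ 3, 5 (mod 8)`, when `2 * p` is the composite order. -/
theorem odd_case {S : ℕ → Prop} {q ℓ e p : ℕ}
    (hS : ∀ a, S a → 1 < a → a.Prime ∨ a = 2 * p) (hp : p.Prime) (hℓ : ℓ.Prime)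
    (hqe : q = ℓ ^ e) (h5 : 5 < q) (h8 : q % 8 = 3 ∨ q % 8 = 5)
    (hA : S ((q - 1) / 2)) (hB : S ((q + 1) / 2)) :
    q = 11 ∨ q = 13 ∨ ∃ r s : ℕ, r.Prime ∧ s.Prime ∧ q = 3 ^ e ∧ q - 1 = 2 * r ∧ q + 1 = 4 * s := by
  have hA1 : 1 < (q - 1) / 2 := by omega
  have hB1 : 1 < (q + 1) / 2 := by omega
  rcases h8 with h8 | h8
  · have hA' : ((q - 1) / 2).Prime := (hS _ hA hA1).resolve_right (by omega)
    have hB' : (q + 1) / 2 = 2 * p := (hS _ hB hB1).resolve_left fun h => by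
      have := h.eq_two_or_odd
      omega
    by_cases h3 : 3 ∣ q
    · have hℓ3 : ℓ = 3 := ((Nat.prime_dvd_prime_iff_eq Nat.prime_three hℓ).1
        (Nat.prime_three.dvd_of_dvd_pow (hqe ▸ h3))).symm
      subst hℓ3
      exact Or.inr (Or.inr ⟨_, p, hA', hp, hqe, by omega, by omega⟩)
    · have hq3 : q % 3 = 1 ∨ q % 3 = 2 := by omega
      obtain h | h : 3 ∣ (q - 1) / 2 ∨ 3 ∣ (q + 1) / 2 := by
        rcases hq3 with h' | h'
        · left
          exact (Nat.Coprime.dvd_mul_left (show Nat.Coprime 3 2 by norm_num)).1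
            (show 3 ∣ 2 * ((q - 1) / 2) by rw [Nat.mul_div_cancel' (by omega)]; omega)
        · right
          exact (Nat.Coprime.dvd_mul_left (show Nat.Coprime 3 2 by norm_num)).1
            (show 3 ∣ 2 * ((q + 1) / 2) by rw [Nat.mul_div_cancel' (by omega)]; omega)
      · have := eq_three_of_prime hA' h
        omega
      · have := eq_three_of_prime hp (by omega)
        omega
  · have hA' : (q - 1) / 2 = 2 * p := (hS _ hA hA1).resolve_left fun h => by
      have := h.eq_two_or_odd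
      omega
    have hB' : ((q + 1) / 2).Prime := (hS _ hB hB1).resolve_right (by omega)
    by_cases h3 : 3 ∣ q
    · exfalso
      have hℓ3 : ℓ = 3 := ((Nat.prime_dvd_prime_iff_eq Nat.prime_three hℓ).1
        (Nat.prime_three.dvd_of_dvd_pow (hqe ▸ h3))).symm
      subst hℓ3
      have hmod : ∀ i : ℕ, 3 ^ i % 8 = 1 ∨ 3 ^ i % 8 = 3 := fun i => by
        induction i with
        | zero => norm_num
        | succ i ih => rw [pow_succ, Nat.mul_mod]; rcases ih with h | h <;> rw [h] <;> norm_num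
      have := hmod e
      omega
    · have hq3 : q % 3 = 1 ∨ q % 3 = 2 := by omega
      obtain h | h : 3 ∣ (q - 1) / 2 ∨ 3 ∣ (q + 1) / 2 := by
        rcases hq3 with h' | h'
        · left
          exact (Nat.Coprime.dvd_mul_left (show Nat.Coprime 3 2 by norm_num)).1
            (show 3 ∣ 2 * ((q - 1) / 2) by rw [Nat.mul_div_cancel' (by omega)]; omega)
        · right
          exact (Nat.Coprime.dvd_mul_left (show Nat.Coprime 3 2 by norm_num)).1
            (show 3 ∣ 2 * ((q + 1) / 2) by rw [Nat.mul_div_cancel' (by omega)]; omega)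
      · have := eq_three_of_prime hp (by omega)
        omega
      · have := eq_three_of_prime hB' h
        omega

/-- The tori of a Suzuki group of parameter `m`. -/
theorem suzuki_case {m : ℕ} (hm : 1 ≤ m) (hp : (2 ^ (2 * m + 1) + 2 ^ (m + 1) + 1).Prime)
    (hq : (2 ^ (2 * m + 1) - 2 ^ (m + 1) + 1).Prime) : m = 1 := by
  have hprod : (2 ^ (2 * m + 1) + 2 ^ (m + 1) + 1) * (2 ^ (2 * m + 1) - 2 ^ (m + 1) + 1) =
      4 * 16 ^ m + 1 := by
    have hle : 2 ^ (m + 1) ≤ 2 ^ (2 * m + 1) := Nat.pow_le_pow_right (by norm_num) (by omega)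
    have e1 : 2 ^ (2 * m + 1) = 2 * (2 ^ m) ^ 2 := by rw [← pow_mul, pow_succ, mul_comm m]; ring
    have e2 : 2 ^ (m + 1) = 2 * 2 ^ m := by ring
    have e3 : 16 ^ m = (2 ^ m) ^ 4 := by
      rw [← pow_mul, show m * 4 = 4 * m by ring, pow_mul]; norm_num
    rw [e1, e2] at hle ⊢
    rw [e3]
    zify [hle]
    ring
  have h5 : 5 ∣ (2 ^ (2 * m + 1) + 2 ^ (m + 1) + 1) * (2 ^ (2 * m + 1) - 2 ^ (m + 1) + 1) := by
    rw [hprod, Nat.dvd_iff_mod_eq_zero, Nat.add_mod, Nat.mul_mod, Nat.pow_mod]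
    norm_num
  have h8 : 8 ≤ 2 ^ (2 * m + 1) :=
    le_trans (by norm_num) (Nat.pow_le_pow_right (show 0 < 2 by norm_num) (show 3 ≤ 2 * m + 1 by omega))
  rcases (Nat.Prime.dvd_mul (by norm_num : Nat.Prime 5)).1 h5 with h | h
  · have := (Nat.prime_dvd_prime_iff_eq (show Nat.Prime 5 by norm_num) hp).1 h
    clear h h5 hprod
    generalize 2 ^ (2 * m + 1) = Q at *
    generalize 2 ^ (m + 1) = R at *
    omega
  · have h' := (Nat.prime_dvd_prime_iff_eq (show Nat.Prime 5 by norm_num) hq).1 h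
    by_contra hne
    have e1 : 2 ^ (2 * m + 1) = 2 ^ (m + 1) * 2 ^ m := by rw [← pow_add]; congr 1; omega
    have hm2 : 4 ≤ 2 ^ m :=
      le_trans (by norm_num) (Nat.pow_le_pow_right (show 0 < 2 by norm_num) (show 2 ≤ m by omega))
    have e2 : 2 ^ (m + 1) = 2 * 2 ^ m := by ring
    have : 2 ^ (m + 1) * 4 ≤ 2 ^ (m + 1) * 2 ^ m := Nat.mul_le_mul_left _ hm2
    clear h h5 hprod
    rw [← e1] at this
    generalize 2 ^ (2 * m + 1) = Q at *
    generalize 2 ^ (m + 1) = R at *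
    omega

end Cfsg.Agent.Lib.OneComposite24
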